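import Groth.Agent.FibreTrdeg.Basic
import Groth.Prelude.Def_Cyc

/-! Relative dimension through transcendence degrees at generic points of fibres. -/

universe u

open CategoryTheory AlgebraicGeometry

namespace Groth.Agent.CyclePull

variable {X Y Z : Scheme.{u}}

/-- The transcendence degree of the residue extension at `x`. -/
noncomputable def td (f : X ⟶ Y) (x : X) : Cardinal.{u} :=
  letI := (f.residueFieldMap x).hom.toAlgebra
  Algebra.trdeg (Y.residueField (f x)) (X.residueField x)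

theorem td_comp (f : X ⟶ Y) (g : Y ⟶ Z) (x : X) : td (f ≫ g) x = td g (f x) + td f x := by
  letI := ((f ≫ g).residueFieldMap x).hom.toAlgebra
  letI := (f.residueFieldMap x).hom.toAlgebra
  letI : Algebra (Z.residueField ((f ≫ g) x)) (Y.residueField (f x)) := (g.residueFieldMap (f x)).hom.toAlgebra
  haveI : IsScalarTower (Z.residueField ((f ≫ g) x)) (Y.residueField (f x)) (X.residueField x) :=
    IsScalarTower.of_algebraMap_eq fun r => congrArg (fun φ => φ.hom r) (Scheme.residueFieldMap_comp f g x)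
  exact (trdeg_add_eq (Z.residueField ((f ≫ g) x)) (Y.residueField (f x)) (A := X.residueField x)).symm

theorem td_eq_of_max (f : X ⟶ Y) [LocallyOfFiniteType f] {r : ℕ} (hr : Cyc.HasRelDim f r) (x : X)
    (hmax : ∀ y, f y = f x → y ⤳ x → y = x) : td f x = r := by
  obtain ⟨x0, hx0⟩ : x ∈ Set.range (f.fiberι (f x)) := by rw [f.range_fiberι]; exact rfl
  have hmax0 : FibDim.IsMax' x0 := fun w hw => (f.fiberι (f x)).isEmbedding.injective (by
    rw [hx0]
    refine hmax _ ?_ ((hw.map (f.fiberι (f x)).continuous).trans (specializes_of_eq hx0))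
    have : f.fiberι (f x) w ∈ f ⁻¹' {f x} := (f.range_fiberι (f x)).le ⟨w, rfl⟩
    exact this)
  obtain ⟨n, hn, hn'⟩ := FibreTrdeg.exists_trdeg_fibre f (f x) x0
  rw [hr (f x) _ (FibDim.closure_mem_components hmax0)] at hn'
  have hrn : r = n := by exact_mod_cast hn'
  have : td f (f.fiberι (f x) x0) = n := hn
  rw [hx0] at this
  rw [this, hrn]

theorem delta_eq_of_max (f : X ⟶ Y) [LocallyOfFiniteType f] {δX : X → ℤ} {δY : Y → ℤ} {r : ℕ} (hr : Cyc.HasRelDim f r)
    (hδ : Cyc.DeltaCompat f δX δY) (x : X) (hmax : ∀ y, f y = f x → y ⤳ x → y = x) : δX x = δY (f x) + r := by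
  obtain ⟨n, hn, he⟩ := hδ x
  have h := (td_eq_of_max f hr x hmax).symm.trans hn
  have : r = n := by exact_mod_cast h
  rw [he, this]

theorem hasRelDim_comp (f : X ⟶ Y) (g : Y ⟶ Z) [Flat f] [LocallyOfFiniteType f] [LocallyOfFiniteType g] {r s : ℕ}
    (hr : Cyc.HasRelDim f r) (hs : Cyc.HasRelDim g s) : Cyc.HasRelDim (f ≫ g) (r + s) := by
  intro z T hT
  obtain ⟨x0, hx0, hmax0⟩ := FibDim.exists_isMax'_component hT
  subst hx0
  set x := (f ≫ g).fiberι z x0 with hx
  have hxz : (f ≫ g) x = z := ((f ≫ g).range_fiberι z).le ⟨x0, rfl⟩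
  have hmax : ∀ y, (f ≫ g) y = (f ≫ g) x → y ⤳ x → y = x := fun y hy hs => by
    obtain ⟨y0, rfl⟩ : y ∈ Set.range ((f ≫ g).fiberι z) := by
      rw [(f ≫ g).range_fiberι]; exact hy.trans hxz
    rw [hmax0 y0 (((f ≫ g).fiberι z).isEmbedding.isInducing.specializes_iff.1 hs)]
  have h1 := td_eq_of_max f hr x fun y hy hs => hmax y (by rw [Scheme.Hom.comp_apply, Scheme.Hom.comp_apply, hy]) hs
  have h2 := td_eq_of_max g hs (f x) fun y hy hs => by
    obtain ⟨w, hw, rfl⟩ := Flat.generalizingMap f hs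
    rw [hmax w (by rw [Scheme.Hom.comp_apply, Scheme.Hom.comp_apply, hy]) hw]
  obtain ⟨n, hn, hn'⟩ := FibreTrdeg.exists_trdeg_fibre (f ≫ g) z x0
  have h3 : td (f ≫ g) x = n := hn
  rw [td_comp, h1, h2] at h3
  have : s + r = n := by exact_mod_cast h3
  rw [hn', ← this, add_comm s r]

end Groth.Agent.CyclePull
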