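import Mathlib
import Groth.Prelude.Def_Cyc

/-! Multiplicities of flat pullback of cycles: composition, and maximality in fibres. -/

universe u

open CategoryTheory AlgebraicGeometry IsLocalRing TensorProduct

namespace Groth.Agent.CyclePull

variable {X Y Z : Scheme.{u}}

/-- The multiplicity of the fibre of `f` at `x`. -/
noncomputable def mult (f : X ⟶ Y) (x : X) : ℕ∞ :=
  Module.length (X.presheaf.stalk x) (X.presheaf.stalk x ⧸ Ideal.map (f.stalkMap x).hom (maximalIdeal (Y.presheaf.stalk (f x))))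

theorem length_quot_map {A B : Type u} [CommRing A] [CommRing B] [IsLocalRing A] [IsLocalRing B] [Algebra A B]
    [IsLocalHom (algebraMap A B)] [Module.Flat A B] (I : Ideal A) :
    Module.length B (B ⧸ I.map (algebraMap A B)) =
      Module.length A (A ⧸ I) * Module.length B (B ⧸ (maximalIdeal A).map (algebraMap A B)) := by
  rw [← IsLocalRing.length_baseChange A B (A ⧸ I),
    (Algebra.TensorProduct.quotIdealMapEquivTensorQuot B I).toLinearEquiv.length_eq]

theorem mult_comp (f : X ⟶ Y) (g : Y ⟶ Z) [Flat f] (x : X) : mult (f ≫ g) x = mult g (f x) * mult f x := by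
  letI := (f.stalkMap x).hom.toAlgebra
  haveI : IsLocalHom (algebraMap (Y.presheaf.stalk (f x)) (X.presheaf.stalk x)) :=
    inferInstanceAs (IsLocalHom (f.stalkMap x).hom)
  haveI : Module.Flat (Y.presheaf.stalk (f x)) (X.presheaf.stalk x) := Flat.stalkMap f x
  have h : Ideal.map ((f ≫ g).stalkMap x).hom (maximalIdeal (Z.presheaf.stalk ((f ≫ g) x))) =
      (Ideal.map (g.stalkMap (f x)).hom (maximalIdeal (Z.presheaf.stalk (g (f x))))).map (algebraMap (Y.presheaf.stalk (f x)) (X.presheaf.stalk x)) := by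
    refine Eq.trans ?_ (Ideal.map_map (g.stalkMap (f x)).hom (f.stalkMap x).hom).symm
    rw [Scheme.Hom.stalkMap_comp]
    rfl
  show Module.length _ _ = _
  rw [h, length_quot_map]
  rfl

theorem eq_of_mult_ne_top (f : X ⟶ Y) {x y : X} (h : mult f x ≠ ⊤) (hy : y ⤳ x) (hfy : f y = f x) : y = x := by
  set I := Ideal.map (f.stalkMap x).hom (maximalIdeal (Y.presheaf.stalk (f x))) with hI
  haveI : IsArtinian (X.presheaf.stalk x) (X.presheaf.stalk x ⧸ I) :=
    (isFiniteLength_iff_isNoetherian_isArtinian.1 (Module.length_ne_top_iff.1 h)).2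
  haveI : IsArtinianRing (X.presheaf.stalk x ⧸ I) := isArtinian_of_tower (X.presheaf.stalk x) inferInstance
  obtain ⟨q, rfl⟩ := (Scheme.range_fromSpecStalk (X := X) (x := x)).ge hy
  rw [← Scheme.Hom.comp_apply, ← Scheme.SpecMap_stalkMap_fromSpecStalk, Scheme.Hom.comp_apply] at hfy
  have e : Spec.map (f.stalkMap x) q = closedPoint (Y.presheaf.stalk (f x)) :=
    (Y.fromSpecStalk (f x)).isEmbedding.injective (hfy.trans Scheme.fromSpecStalk_closedPoint.symm)
  have hle : I ≤ q.asIdeal := Ideal.map_le_iff_le_comap.2 (le_of_eq (congrArg PrimeSpectrum.asIdeal e).symm)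
  haveI : (q.asIdeal.map (Ideal.Quotient.mk I)).IsPrime :=
    Ideal.map_isPrime_of_surjective Ideal.Quotient.mk_surjective (by rwa [Ideal.mk_ker])
  haveI hmax : (q.asIdeal.map (Ideal.Quotient.mk I)).IsMaximal := IsArtinianRing.isMaximal_of_isPrime _
  have hq : q.asIdeal.IsMaximal := by
    rw [show q.asIdeal = (q.asIdeal.map (Ideal.Quotient.mk I)).comap (Ideal.Quotient.mk I) by
      rw [Ideal.comap_map_of_surjective _ Ideal.Quotient.mk_surjective, ← RingHom.ker_eq_comap_bot, Ideal.mk_ker, sup_eq_left.2 hle]]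
    exact Ideal.comap_isMaximal_of_surjective _ Ideal.Quotient.mk_surjective
  rw [show q = closedPoint (X.presheaf.stalk x) from PrimeSpectrum.ext (IsLocalRing.eq_maximalIdeal hq),
    Scheme.fromSpecStalk_closedPoint]

theorem pullFun_eq (f : X ⟶ Y) (δX : X → ℤ) (δY : Y → ℤ) (r : ℤ) (α : Y → ℤ) (x : X) :
    Cyc.pullFun f δX δY r α x = if δX x = δY (f x) + r then α (f x) * ((mult f x).toNat : ℤ) else 0 :=
  rfl

theorem pullFun_comp (f : X ⟶ Y) (g : Y ⟶ Z) [Flat f] (δX : X → ℤ) (δY : Y → ℤ) (δZ : Z → ℤ) (r s : ℤ)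
    (hf : ∀ x : X, mult f x ≠ ⊤ → δX x = δY (f x) + r) (hg : ∀ y : Y, mult g y ≠ ⊤ → δY y = δZ (g y) + s)
    (α : Z → ℤ) : Cyc.pullFun f δX δY r (Cyc.pullFun g δY δZ s α) = Cyc.pullFun (f ≫ g) δX δZ (r + s) α := by
  funext x
  rw [pullFun_eq, pullFun_eq, pullFun_eq, mult_comp, ENat.toNat_mul, Scheme.Hom.comp_apply]
  by_cases h1 : mult g (f x) = ⊤
  · simp [h1]
  by_cases h2 : mult f x = ⊤
  · simp [h2]
  rw [if_pos (hf x h2), if_pos (hg _ h1), if_pos (by rw [hf x h2, hg _ h1]; ring)]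
  push_cast
  ring

end Groth.Agent.CyclePull
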